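import Groth.Agent.Lib.DiagGrp.Points
import Groth.Agent.Lib.GrpSchField.Points
import Groth.Agent.Lib.GrpDeligne.Factor
import Groth.Prelude

/-!
# An extension is a torsor over its quotient
-/

set_option autoImplicit false
set_option linter.all false
set_option backward.isDefEq.respectTransparency false

universe u

open CategoryTheory CategoryTheory.Limits MonoidalCategory CartesianMonoidalCategory MonObj GrpObj AlgebraicGeometry

namespace GrothLib.ExtTors24

variable {S : Scheme.{u}} {A B C : Over S} [GrpObj A] [GrpObj B] [GrpObj C] (i : B ⟶ C) [IsMonHom i] (α : C ⟶ A)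
  [IsMonHom α]

/-- The point of `B` under a point of the base change. -/
noncomputable def bp {T : Over A.left} (g : T ⟶ Red.bc A.hom B) : (Over.map A.hom).obj T ⟶ B :=
  (GrothLib.DiagGrp.bcPointMulEquiv A.hom B T).symm g

/-- A point of `C` over `A` as a point over the base. -/
noncomputable def ofX {T : Over A.left} (x : T ⟶ Over.mk α.left) : (Over.map A.hom).obj T ⟶ C :=
  Over.homMk x.left (by
    change x.left ≫ C.hom = T.hom ≫ A.hom
    rw [← Over.w x, ← Over.w α, Category.assoc]
    rfl)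

/-- The structural point of `A`. -/
noncomputable def tauPt (T : Over A.left) : (Over.map A.hom).obj T ⟶ A := Over.homMk T.hom rfl

theorem ofX_comp {T : Over A.left} (x : T ⟶ Over.mk α.left) : ofX α x ≫ α = tauPt T :=
  Over.OverMorphism.ext (Over.w x)

theorem map_ofX {T T' : Over A.left} (h : T' ⟶ T) (x : T ⟶ Over.mk α.left) :
    (Over.map A.hom).map h ≫ ofX α x = ofX α (h ≫ x) := Over.OverMorphism.ext rfl

theorem map_bp {T T' : Over A.left} (h : T' ⟶ T) (g : T ⟶ Red.bc A.hom B) :
    (Over.map A.hom).map h ≫ bp g = bp (h ≫ g) := by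
  refine (GrothLib.DiagGrp.bcPointMulEquiv A.hom B T').eq_symm_apply.2 ?_
  refine (GrothLib.DiagGrp.bcPoint_comp A.hom h _).trans ?_
  exact congrArg (h ≫ ·) ((GrothLib.DiagGrp.bcPointMulEquiv A.hom B T).apply_symm_apply g)

theorem sum_comp (hi : AlgGrp.IsKernel i α) {T : Over A.left} (g : T ⟶ Red.bc A.hom B) (x : T ⟶ Over.mk α.left) :
    ((bp g ≫ i) * ofX α x) ≫ α = tauPt T := by
  rw [MonObj.mul_comp, Category.assoc, GrpDeligne.ker_comp_eq_one hi, MonObj.comp_one, _root_.one_mul, ofX_comp]

/-- The action map on points. -/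
noncomputable def actPt (hi : AlgGrp.IsKernel i α) {T : Over A.left} (g : T ⟶ Red.bc A.hom B)
    (x : T ⟶ Over.mk α.left) : T ⟶ Over.mk α.left :=
  Over.homMk ((bp g ≫ i) * ofX α x).left (congrArg Over.Hom.left (sum_comp i α hi g x))

theorem ofX_actPt (hi : AlgGrp.IsKernel i α) {T : Over A.left} (g : T ⟶ Red.bc A.hom B)
    (x : T ⟶ Over.mk α.left) : ofX α (actPt i α hi g x) = (bp g ≫ i) * ofX α x := Over.OverMorphism.ext rfl

theorem comp_actPt (hi : AlgGrp.IsKernel i α) {T T' : Over A.left} (h : T' ⟶ T) (g : T ⟶ Red.bc A.hom B)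
    (x : T ⟶ Over.mk α.left) : h ≫ actPt i α hi g x = actPt i α hi (h ≫ g) (h ≫ x) := by
  have e : (Over.map A.hom).map h ≫ ((bp g ≫ i) * ofX α x) = (bp (h ≫ g) ≫ i) * ofX α (h ≫ x) := by
    rw [MonObj.comp_mul, map_ofX, ← Category.assoc, map_bp]
  exact Over.OverMorphism.ext (congrArg Over.Hom.left e :)

theorem bp_one {T : Over A.left} : bp (1 : T ⟶ Red.bc A.hom B) = 1 :=
  map_one (GrothLib.DiagGrp.bcPointMulEquiv A.hom B T).symm

theorem bp_mul {T : Over A.left} (g g' : T ⟶ Red.bc A.hom B) : bp (g * g') = bp g * bp g' :=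
  map_mul (GrothLib.DiagGrp.bcPointMulEquiv A.hom B T).symm g g'

theorem ext_ofX {T : Over A.left} {x y : T ⟶ Over.mk α.left} (h : ofX α x = ofX α y) : x = y :=
  Over.OverMorphism.ext (congrArg Over.Hom.left h :)

/-- The action of the kernel on the extension over the quotient. -/
noncomputable def action (hi : AlgGrp.IsKernel i α) : AlgGrp.Action (Red.bc A.hom B) (Over.mk α.left) where
  act := actPt i α hi (fst _ _) (snd _ _)
  one_act := by
    apply AlgGrp.Action.hom_ext_lift₂
    intro T u x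
    have hu : u ≫ η[Red.bc A.hom B] = 1 := by rw [Hom.one_def, toUnit_unique (toUnit T) u]
    rw [lift_whiskerRight_assoc, hu, comp_actPt, lift_fst, lift_snd, leftUnitor_hom, lift_snd]
    apply ext_ofX
    rw [ofX_actPt, bp_one, MonObj.one_comp, _root_.one_mul]
  mul_act := by
    apply AlgGrp.Action.hom_ext_lift₃
    intro T g g' x
    rw [lift_whiskerRight_assoc, ← Hom.mul_def, comp_actPt, lift_fst, lift_snd, lift_lift_associator_hom_assoc,
      lift_whiskerLeft_assoc, comp_actPt, lift_fst, lift_snd, comp_actPt, lift_fst, lift_snd]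
    apply ext_ofX
    rw [ofX_actPt, ofX_actPt, ofX_actPt, bp_mul, MonObj.mul_comp, _root_.mul_assoc]

/-- The extension is a torsor over the quotient. -/
theorem isIso_shear (hi : AlgGrp.IsKernel i α) :
    IsIso (lift (action i α hi).act (snd (Red.bc A.hom B) (Over.mk α.left))) := by
  haveI : Mono i := GrpDeligne.mono_of_isKernel hi
  have key : ∀ {T : Over A.left} (p : T ⟶ Red.bc A.hom B ⊗ Over.mk α.left),
      p ≫ lift (action i α hi).act (snd (Red.bc A.hom B) (Over.mk α.left)) =
        lift (actPt i α hi (p ≫ fst _ _) (p ≫ snd _ _)) (p ≫ snd _ _) := fun p => by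
    rw [comp_lift]
    exact congrArg (lift · _) (comp_actPt i α hi p _ _)
  refine GrothLib.GrpSchField.isIso_of_points _ (fun T b => ?_) (fun T p p' e => ?_)
  · have hc : (ofX α (b ≫ fst _ _) * (ofX α (b ≫ snd _ _))⁻¹) ≫ α = 1 := by
      rw [MonObj.mul_comp, GrpObj.inv_comp, ofX_comp, ofX_comp, mul_inv_cancel]
    obtain ⟨n, hn⟩ := GrpDeligne.exists_lift_ker hi _ hc
    refine ⟨lift (GrothLib.DiagGrp.bcPointMulEquiv A.hom B T n) (b ≫ snd _ _), ?_⟩
    rw [key, lift_fst, lift_snd]
    apply CartesianMonoidalCategory.hom_ext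
    · rw [lift_fst]
      apply ext_ofX
      rw [ofX_actPt, show bp (GrothLib.DiagGrp.bcPointMulEquiv A.hom B T n) = n from
        (GrothLib.DiagGrp.bcPointMulEquiv A.hom B T).symm_apply_apply n, hn, inv_mul_cancel_right]
    · rw [lift_snd]
  · rw [key, key] at e
    have h2 : p ≫ snd _ _ = p' ≫ snd _ _ := by simpa using congrArg (· ≫ snd _ _) e
    have h1 := congrArg (fun z => ofX α (z ≫ fst _ _)) e
    simp only [lift_fst, ofX_actPt, h2, mul_left_inj, cancel_mono i] at h1
    refine CartesianMonoidalCategory.hom_ext _ _ ?_ h2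
    exact (GrothLib.DiagGrp.bcPointMulEquiv A.hom B T).symm.injective h1

end GrothLib.ExtTors24
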